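import Groth.Prelude.Def_EssDim
import Mathlib.RingTheory.AlgebraicIndependent.TranscendenceBasis
import Mathlib.FieldTheory.IntermediateField.Adjoin.Basic
import Mathlib.FieldTheory.IntermediateField.Algebraic

set_option autoImplicit false
universe u v w

open CategoryTheory AlgebraicGeometry Opposite

namespace EssDimA

variable (k : Type u) [Field k] (K : Type u) [Field K] [Algebra k K]

theorem trdeg_compositum_le {L : Type u} [Field L] [Algebra k L] [Algebra K L] [IsScalarTower k K L]
    (M : IntermediateField k L) :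
    Algebra.trdeg K (IntermediateField.adjoin K (M : Set L)) ≤ Algebra.trdeg k M := by
  obtain ⟨s, hs⟩ := exists_isTranscendenceBasis k M
  have halg := hs.isAlgebraic
  rw [Subtype.range_coe] at halg
  set K' := IntermediateField.adjoin K (M : Set L) with hK'
  let j : M → K' := fun m => ⟨m.1, IntermediateField.subset_adjoin K _ m.2⟩
  let s' : Set K' := j '' s
  have hF : ∀ y ∈ K', IsAlgebraic (IntermediateField.adjoin K ((Subtype.val : M → L) '' s)) y := by
    intro y hy
    refine IsIntegral.isAlgebraic ?_
    induction hy using IntermediateField.adjoin_induction with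
    | mem x hx =>
      rw [← isAlgebraic_iff_isIntegral, IntermediateField.isAlgebraic_adjoin_iff]
      obtain ⟨p, hp0, hp⟩ := halg.isAlgebraic ⟨x, hx⟩
      let φ : Algebra.adjoin k s →+* Algebra.adjoin K ((Subtype.val : M → L) '' s) :=
        { toFun := fun a => ⟨(a.1 : L), by
            have h : (a.1 : L) ∈ (Algebra.adjoin k s).map M.val := ⟨a.1, a.2, rfl⟩
            rw [AlgHom.map_adjoin] at h
            have hle : Algebra.adjoin k (M.val '' s) ≤
                (Algebra.adjoin K ((Subtype.val : M → L) '' s)).restrictScalars k :=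
              Algebra.adjoin_le fun z hz => Algebra.subset_adjoin hz
            exact hle h⟩
          map_one' := rfl
          map_mul' := fun _ _ => rfl
          map_zero' := rfl
          map_add' := fun _ _ => rfl }
      have hφ : Function.Injective φ := fun a b h => Subtype.ext (Subtype.ext (congrArg Subtype.val h :))
      refine ⟨p.map φ, (Polynomial.map_ne_zero_iff hφ).mpr hp0, ?_⟩
      have h2 : Polynomial.eval₂ ((M.val : M →+* L).comp (algebraMap (Algebra.adjoin k s) M)) x p = 0 := by
        have h3 := congrArg (M.val : M →+* L) hp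
        rw [Polynomial.aeval_def, Polynomial.hom_eval₂, map_zero] at h3
        exact h3
      rw [Polynomial.aeval_def, Polynomial.eval₂_map]
      exact h2
    | algebraMap c =>
      rw [IsScalarTower.algebraMap_apply K (IntermediateField.adjoin K ((Subtype.val : M → L) '' s)) L]
      exact isIntegral_algebraMap
    | add a b _ _ ha hb => exact ha.add hb
    | inv a _ ha =>
      exact IsAlgebraic.isIntegral (ha.isAlgebraic.inv)
    | mul a b _ _ ha hb => exact ha.mul hb
  have hFA : Algebra.IsAlgebraic (Algebra.adjoin K s') K' := by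
    constructor
    intro y
    have h := hF y.1 y.2
    rw [IntermediateField.isAlgebraic_adjoin_iff] at h
    obtain ⟨p, hp0, hp⟩ := h
    have him : K'.val '' s' = (Subtype.val : M → L) '' s := by
      rw [← Set.image_comp]; rfl
    let e : Algebra.adjoin K ((Subtype.val : M → L) '' s) →+* Algebra.adjoin K s' :=
      { toFun := fun a =>
          ⟨⟨a.1, by
            have hle : Algebra.adjoin K ((Subtype.val : M → L) '' s) ≤ K'.toSubalgebra :=
              Algebra.adjoin_le fun z hz => by
                obtain ⟨m, -, rfl⟩ := hz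
                exact IntermediateField.subset_adjoin K _ m.2
            exact hle a.2⟩, by
            have h : a.1 ∈ (Algebra.adjoin K s').map K'.val := by
              rw [AlgHom.map_adjoin, him]; exact a.2
            obtain ⟨b, hb, hb'⟩ := h
            have hbb : b.1 = a.1 := hb'
            obtain ⟨bv, bm⟩ := b
            subst hbb
            exact hb⟩
        map_one' := rfl
        map_mul' := fun _ _ => rfl
        map_zero' := rfl
        map_add' := fun _ _ => rfl }
    have he : Function.Injective e := fun a b h => Subtype.ext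
      (congrArg (fun z : Algebra.adjoin K s' => (z.1 : L)) h :)
    refine ⟨p.map e, (Polynomial.map_ne_zero_iff he).mpr hp0, ?_⟩
    apply Subtype.coe_injective
    rw [Polynomial.aeval_def, Polynomial.eval₂_map]
    show (K'.val : K' →+* L) _ = _
    rw [Polynomial.hom_eval₂]
    exact hp
  calc Algebra.trdeg K K' ≤ Cardinal.mk s' := Algebra.IsAlgebraic.trdeg_le_cardinalMk K s'
    _ ≤ Cardinal.mk s := Cardinal.mk_image_le
    _ = Algebra.trdeg k M := hs.cardinalMk_eq_trdeg

variable {k K}

theorem ed_restrict_le (k : Type u) [Field k] (K : Type u) [Field K] [Algebra k K]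
    (P : (Over (Spec (CommRingCat.of k)))ᵒᵖ ⥤ Type w) :
    EssDim.ed (k := K) ((Over.map (Spec.map (CommRingCat.ofHom (algebraMap k K)))).op ⋙ P) ≤ EssDim.ed P := by
  refine iSup_le fun L => iSup_le fun iF => iSup_le fun iA => iSup_le fun ξ => ?_
  letI := iF
  letI := iA
  letI : Algebra k L := ((algebraMap K L).comp (algebraMap k K)).toAlgebra
  haveI : IsScalarTower k K L := IsScalarTower.of_algebraMap_eq' rfl
  let f := Spec.map (CommRingCat.ofHom (algebraMap k K))
  have hstr : ∀ (E : IntermediateField K L) (M : IntermediateField k L) (hME : (M : Set L) ⊆ E),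
      ∃ ψ : (Over.map f).obj (SGA7.pt (K := K) E) ⟶ SGA7.pt (K := k) M,
        ψ.left = Spec.map (CommRingCat.ofHom
          ({ toFun := fun m => ⟨m.1, hME m.2⟩
             map_one' := rfl
             map_mul' := fun _ _ => rfl
             map_zero' := rfl
             map_add' := fun _ _ => rfl } : M →+* E)) := by
    intro E M hME
    refine ⟨Over.homMk (Spec.map _) ?_, rfl⟩
    change Spec.map _ ≫ Spec.map _ = Spec.map _ ≫ Spec.map _
    rw [← Spec.map_comp, ← Spec.map_comp, ← CommRingCat.ofHom_comp, ← CommRingCat.ofHom_comp]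
  let φ : SGA7.pt (K := k) L ⟶ (Over.map f).obj (SGA7.pt (K := K) L) :=
    Over.homMk (𝟙 _) (by
      change 𝟙 _ ≫ Spec.map _ ≫ Spec.map _ = Spec.map _
      rw [Category.id_comp, ← Spec.map_comp, ← CommRingCat.ofHom_comp]
      )
  let φ' : (Over.map f).obj (SGA7.pt (K := K) L) ⟶ SGA7.pt (K := k) L :=
    Over.homMk (𝟙 _) (by
      change 𝟙 _ ≫ Spec.map _ = Spec.map _ ≫ Spec.map _
      rw [Category.id_comp, ← Spec.map_comp, ← CommRingCat.ofHom_comp]
      )
  let ξk : EssDim.FPt P L := P.map φ.op ξ
  refine le_trans ?_ (EssDim.edAt_le_ed ξk)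
  rw [WithBot.coe_le_coe]
  refine le_iInf fun ⟨M, ξ₀, hξ₀⟩ => ?_
  let E := IntermediateField.adjoin K (M : Set L)
  obtain ⟨ψ, hψ⟩ := hstr E M (IntermediateField.subset_adjoin K _)
  refine le_trans (EssDim.edAt_le_of_descends (K := E) ⟨P.map ψ.op ξ₀, ?_⟩)
    (OrderHomClass.mono Cardinal.toENat (trdeg_compositum_le k K M))
  have e1 : (Over.map f).map (EssDim.resPt E.val) ≫ ψ = φ' ≫ EssDim.resPt M.val := by
    ext : 1
    simp only [Over.comp_left, Over.map_map_left, hψ, EssDim.resPt_left, φ', Over.homMk_left,
      Category.id_comp]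
    rw [← Spec.map_comp, ← CommRingCat.ofHom_comp]
    rfl
  have e2 : φ' ≫ φ = 𝟙 _ := by
    ext : 1
    simp [φ, φ']
  change (P.map ψ.op ≫ P.map ((Over.map f).map (EssDim.resPt E.val)).op) ξ₀ = ξ
  rw [← P.map_comp, ← op_comp, e1, op_comp, P.map_comp]
  change P.map φ'.op (EssDim.fmap M.val ξ₀) = ξ
  rw [hξ₀]
  change (P.map φ.op ≫ P.map φ'.op) ξ = ξ
  rw [← P.map_comp, ← op_comp, e2, op_id, P.map_id]
  rfl

end EssDimA
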